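import Cfsg.Agent.ZStar.Final
import Cfsg.Agent.Transfer.Basic
import Cfsg.Agent.Solvable.PGroupBasic
import Cfsg.Agent.S3224
import Mathlib.GroupTheory.Focal

/-!
A simple group with an involution whose centralizer is a Sylow 2-subgroup with Frattini subgroup of
order two has dihedral Sylow 2-subgroups of order eight.
-/

set_option autoImplicit false
set_option linter.unusedSectionVars false
set_option linter.style.haveILetI false

namespace CfsgLib.SmallFrattini

open Subgroup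
open scoped commutatorElement

universe u

variable {L : Type u} [Group L] [Finite L]

/-- The standing hypotheses. -/
structure Data (R : Sylow 2 L) (z : L) : Prop where
  zz : z * z = 1
  z1 : z ≠ 1
  hR : (R : Subgroup L) = centralizer ({z} : Set L)
  sq : ∀ r ∈ (R : Subgroup L), r * r = 1 ∨ r * r = z
  comm : ∀ r ∈ (R : Subgroup L), ∀ s ∈ (R : Subgroup L), r * s * r⁻¹ = s ∨ r * s * r⁻¹ = z * s
  norm : ∀ n ∈ normalizer ((R : Subgroup L) : Set L), n * z * n⁻¹ = z

variable {R : Sylow 2 L} {z : L}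

/-- Central in `R`. -/
def Cen (R : Sylow 2 L) (c : L) : Prop :=
  c ∈ (R : Subgroup L) ∧ ∀ r ∈ (R : Subgroup L), r * c = c * r

/-- The centralizer in `R`. -/
def Ax (R : Sylow 2 L) (x : L) : Subgroup L := (R : Subgroup L) ⊓ centralizer ({x} : Set L)

theorem mem_Ax {x s : L} : s ∈ Ax R x ↔ s ∈ (R : Subgroup L) ∧ s * x = x * s := by
  rw [Ax, mem_inf, mem_centralizer_singleton_iff]

/-- The intersection with the centralizer is a Sylow subgroup of the centralizer. -/
def Good (R : Sylow 2 L) (y : L) : Prop :=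
  ∀ P : Subgroup L, IsPGroup 2 P → P ≤ centralizer ({y} : Set L) → Ax R y ≤ P →
    P ≤ (R : Subgroup L)

theorem good_of_cen {y : L} (hy : Cen R y) : Good R y := by
  intro P hP _ hle
  have hRP : (R : Subgroup L) ≤ P := fun r hr => hle (mem_Ax.2 ⟨hr, hy.2 r hr⟩)
  exact (R.3 hP hRP).le

theorem conj_into {y : L} (hy : Good R y) {P : Subgroup L} (hP : IsPGroup 2 P)
    (hPy : P ≤ centralizer ({y} : Set L)) :
    ∃ c ∈ centralizer ({y} : Set L), ∀ p ∈ P, c * p * c⁻¹ ∈ Ax R y := by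
  haveI : Fact (Nat.Prime 2) := ⟨Nat.prime_two⟩
  set C := centralizer ({y} : Set L) with hC
  have hAC : Ax R y ≤ C := inf_le_right
  have hA2 : IsPGroup 2 (Ax R y) := R.isPGroup'.to_le inf_le_left
  obtain ⟨T, hT⟩ := (hA2.of_equiv (subgroupOfEquivOfLe hAC).symm).exists_le_sylow
  obtain ⟨T', hT'⟩ := (hP.of_equiv (subgroupOfEquivOfLe hPy).symm).exists_le_sylow
  have hTR : (T : Subgroup C).map C.subtype ≤ (R : Subgroup L) :=
    hy _ (T.isPGroup'.map _) (map_subtype_le _) fun a ha => ⟨⟨a, hAC ha⟩, hT ha, rfl⟩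
  obtain ⟨c, hc⟩ := MulAction.exists_smul_eq C T' T
  refine ⟨c, c.2, fun p hp => ?_⟩
  have h1 : c * ⟨p, hPy hp⟩ * c⁻¹ ∈ (T : Subgroup C) := by
    rw [← hc, Sylow.coe_subgroup_smul]
    exact ⟨⟨p, hPy hp⟩, hT' hp, rfl⟩
  exact mem_inf.2 ⟨hTR ⟨_, h1, rfl⟩, (c * ⟨p, hPy hp⟩ * c⁻¹ : C).2⟩

namespace Data

theorem z_mem (D : Data R z) : z ∈ (R : Subgroup L) := by
  rw [D.hR]; exact mem_centralizer_singleton_iff.2 rfl

theorem cen_z (D : Data R z) : Cen R z :=
  ⟨D.z_mem, fun r hr => mem_centralizer_singleton_iff.1 (D.hR ▸ hr)⟩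

theorem normalizer_le (D : Data R z) : normalizer ((R : Subgroup L) : Set L) ≤ R := by
  intro n hn
  rw [D.hR, mem_centralizer_singleton_iff]
  exact mul_inv_eq_iff_eq_mul.1 (D.norm n hn)

theorem mem_of_fix (D : Data R z) {g : L} (hg : g * z * g⁻¹ = z) : g ∈ (R : Subgroup L) := by
  rw [D.hR, mem_centralizer_singleton_iff]
  exact mul_inv_eq_iff_eq_mul.1 hg

theorem cen_eq_of_conj (D : Data R z) {c d g : L} (hc : Cen R c) (hd : Cen R d)
    (hg : g * c * g⁻¹ = d) : c = d := by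
  haveI : Fact (Nat.Prime 2) := ⟨Nat.prime_two⟩
  have hfix : ∀ e : L, Cen R e → ∀ r ∈ R, (fun y => r * y * r⁻¹) '' ({e} : Set L) = {e} := by
    intro e he r hr
    rw [Set.image_singleton, Set.singleton_eq_singleton_iff]
    exact mul_inv_eq_iff_eq_mul.2 (he.2 r hr)
  obtain ⟨n, hn, hnc⟩ := CfsgLib.TransferBasic.fusion_normal_subsets R {c} {d} (hfix c hc)
    (hfix d hd) g (by rw [Set.image_singleton, hg])
  rw [Set.image_singleton, Set.singleton_eq_singleton_iff] at hnc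
  rwa [hc.2 n (D.normalizer_le hn), mul_inv_cancel_right] at hnc

theorem exists_fused [IsSimpleGroup L] (D : Data R z) (hna : ¬ IsMulCommutative L) :
    ∃ g : L, g * z * g⁻¹ ∈ (R : Subgroup L) ∧ g * z * g⁻¹ ≠ z := by
  haveI : Fact (Nat.Prime 2) := ⟨Nat.prime_two⟩
  by_contra h
  push Not at h
  have ho : orderOf z = 2 := orderOf_eq_prime (by rw [pow_two]; exact D.zz) D.z1
  obtain ⟨N, hN, hodd, hcen⟩ := CfsgLib.ZStar.zstar_of_sylow R ho h
  have hbot : N = ⊥ := by
    refine (IsSimpleGroup.eq_bot_or_eq_top_of_normal N hN).resolve_right fun htop => ?_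
    have h2 : 2 ∣ Nat.card L := ho ▸ orderOf_dvd_natCard z
    rw [htop, card_top] at hodd
    exact Nat.two_dvd_ne_zero.2 (Nat.odd_iff.1 hodd) h2
  have hc : z ∈ center L := by
    rw [mem_center_iff]
    intro g
    have h1 := hcen g
    rw [hbot, mem_bot, mul_inv_eq_one, mul_inv_eq_iff_eq_mul] at h1
    exact h1.symm
  rcases IsSimpleGroup.eq_bot_or_eq_top_of_normal (center L) inferInstance with h1 | h1
  · exact D.z1 (mem_bot.1 (h1 ▸ hc))
  · exact hna ⟨⟨fun a b => (mem_center_iff.1 (h1 ▸ mem_top a) b).symm⟩⟩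

theorem conj_ne (D : Data R z) {r x : L} (hr : r ∈ (R : Subgroup L)) (hx : x ∈ (R : Subgroup L))
    (h : r * x ≠ x * r) : r * x * r⁻¹ = z * x :=
  (D.comm r hr x hx).resolve_left fun e => h (mul_inv_eq_iff_eq_mul.1 e)

theorem ax_mul (D : Data R z) {x s t : L} (hx : x ∈ (R : Subgroup L)) (hs : s ∈ (R : Subgroup L))
    (ht : t ∈ (R : Subgroup L)) (hs' : s ∉ Ax R x) (ht' : t ∉ Ax R x) : s * t ∈ Ax R x := by
  refine mem_Ax.2 ⟨mul_mem hs ht, mul_inv_eq_iff_eq_mul.1 ?_⟩
  have e1 := D.conj_ne hs hx fun e => hs' (mem_Ax.2 ⟨hs, e⟩)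
  have e2 := D.conj_ne ht hx fun e => ht' (mem_Ax.2 ⟨ht, e⟩)
  calc s * t * x * (s * t)⁻¹ = s * (t * x * t⁻¹) * s⁻¹ := by group
    _ = (s * z * s⁻¹) * (s * x * s⁻¹) := by rw [e2]; group
    _ = x := by rw [e1, D.cen_z.2 s hs, mul_inv_cancel_right, ← mul_assoc, D.zz, one_mul]

theorem ax_normal (D : Data R z) {x r a : L} (hx : x ∈ (R : Subgroup L))
    (hr : r ∈ (R : Subgroup L)) (ha : a ∈ Ax R x) : r * a * r⁻¹ ∈ Ax R x := by
  obtain ⟨haR, hax⟩ := mem_Ax.1 ha
  refine mem_Ax.2 ⟨mul_mem (mul_mem hr haR) (inv_mem hr), ?_⟩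
  rcases D.comm r hr a haR with e | e <;> rw [e]
  · exact hax
  · exact ((show Commute z x from (D.cen_z.2 x hx).symm).mul_left hax).eq

theorem card_Ax (D : Data R z) {x : L} (hx : x ∈ (R : Subgroup L)) (hnc : ¬ Cen R x) :
    Nat.card (Ax R x) * 2 = Nat.card (R : Subgroup L) := by
  obtain ⟨r, hr, hrx⟩ : ∃ r ∈ (R : Subgroup L), r ∉ Ax R x := by
    by_contra h
    push Not at h
    exact hnc ⟨hx, fun r hr => (mem_Ax.1 (h r hr)).2⟩
  have hi : ((Ax R x).subgroupOf (R : Subgroup L)).index = 2 := by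
    rw [index_eq_two_iff]
    refine ⟨⟨r, hr⟩, fun b => ?_⟩
    simp only [mem_subgroupOf, Subgroup.coe_mul]
    by_cases hb : (b : L) ∈ Ax R x
    · refine Or.inr ⟨hb, fun h => hrx ?_⟩
      have := mul_mem (inv_mem hb) h
      rwa [inv_mul_cancel_left] at this
    · exact Or.inl ⟨D.ax_mul hx b.2 hr hb hrx, hb⟩
  have h := card_mul_index ((Ax R x).subgroupOf (R : Subgroup L))
  rw [hi] at h
  rw [← Nat.card_congr (subgroupOfEquivOfLe (show Ax R x ≤ (R : Subgroup L) from inf_le_left)).toEquiv]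
  exact h

end Data

/-- The structure of `R` once a fused involution is found. -/
structure Split (R : Sylow 2 L) (z u r₀ : L) : Prop extends Data R z where
  u_mem : u ∈ (R : Subgroup L)
  r_mem : r₀ ∈ (R : Subgroup L)
  r_not : r₀ ∉ Ax R u
  abel : ∀ a ∈ Ax R u, ∀ b ∈ Ax R u, a * b = b * a
  elem : ∀ a ∈ Ax R u, a * a = 1

theorem exists_split [IsSimpleGroup L] (D : Data R z) (hna : ¬ IsMulCommutative L) :
    ∃ u r₀ : L, Split R z u r₀ := by
  obtain ⟨g, huR, huz⟩ := D.exists_fused hna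
  set u := g * z * g⁻¹ with hu
  obtain ⟨r₀, hr₀, hr₀u⟩ : ∃ r ∈ (R : Subgroup L), r ∉ Ax R u := by
    by_contra h
    push Not at h
    exact huz (D.cen_eq_of_conj D.cen_z ⟨huR, fun r hr => (mem_Ax.1 (h r hr)).2⟩ rfl).symm
  have hback : ∀ a ∈ Ax R u, g⁻¹ * a * g ∈ (R : Subgroup L) := by
    intro a ha
    rw [D.hR, mem_centralizer_singleton_iff]
    have h := (mem_Ax.1 ha).2
    calc g⁻¹ * a * g * z = g⁻¹ * (a * u) * g := by rw [hu]; group
      _ = z * (g⁻¹ * a * g) := by rw [h, hu]; group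
  have hzback : g⁻¹ * z * g ≠ z ∧ g⁻¹ * z * g ≠ 1 := by
    constructor
    · intro h
      apply huz
      rw [hu]
      nth_rw 1 [← h]
      group
    · intro h
      apply D.z1
      calc z = g * (g⁻¹ * z * g) * g⁻¹ := by group
        _ = 1 := by rw [h]; group
  refine ⟨u, r₀, { D with
    u_mem := huR, r_mem := hr₀, r_not := hr₀u, abel := fun a ha b hb => ?_, elem := fun a ha => ?_ }⟩
  · by_contra hne
    have e := D.conj_ne (mem_Ax.1 ha).1 (mem_Ax.1 hb).1 hne
    have e2 := D.comm _ (hback a ha) _ (hback b hb)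
    rw [show g⁻¹ * a * g * (g⁻¹ * b * g) * (g⁻¹ * a * g)⁻¹ = (g⁻¹ * z * g) * (g⁻¹ * b * g) by
      calc _ = g⁻¹ * (a * b * a⁻¹) * g := by group
        _ = _ := by rw [e]; group] at e2
    rcases e2 with e2 | e2
    · exact hzback.2 (mul_eq_right.1 e2)
    · exact hzback.1 (mul_right_cancel e2)
  · rcases D.sq a (mem_Ax.1 ha).1 with e | e
    · exact e
    · exfalso
      have e2 := D.sq _ (hback a ha)
      rw [show g⁻¹ * a * g * (g⁻¹ * a * g) = g⁻¹ * z * g by rw [← e]; group] at e2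
      rcases e2 with e2 | e2
      · exact hzback.2 e2
      · exact hzback.1 e2

namespace Split

variable {u r₀ : L}

theorem cen_mem (S : Split R z u r₀) {c : L} (hc : Cen R c) : c ∈ Ax R u :=
  mem_Ax.2 ⟨hc.1, (hc.2 u S.u_mem).symm⟩

theorem cen_of_commute (S : Split R z u r₀) {a s : L} (ha : a ∈ Ax R u)
    (hs : s ∈ (R : Subgroup L)) (hs' : s ∉ Ax R u) (h : a * s = s * a) : Cen R a := by
  refine ⟨(mem_Ax.1 ha).1, fun r hr => ?_⟩
  by_cases hr' : r ∈ Ax R u
  · exact S.abel r hr' a ha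
  · have h1 := S.toData.ax_mul S.u_mem (inv_mem hs) hr (fun e => hs' (by simpa using inv_mem e)) hr'
    have h2 : Commute (s⁻¹ * r) a := S.abel _ h1 a ha
    have h3 : Commute s a := h.symm
    have h4 := h3.mul_left h2
    rw [mul_inv_cancel_left] at h4
    exact h4.eq

theorem cen_or (S : Split R z u r₀) {x s : L} (hx : x ∈ (R : Subgroup L)) (hnc : ¬ Cen R x)
    (hs : s ∈ Ax R x) : Cen R s ∨ Cen R (x * s) := by
  obtain ⟨hsR, hsx⟩ := mem_Ax.1 hs
  by_cases hxA : x ∈ Ax R u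
  · have hsA : s ∈ Ax R u := by
      by_contra hsA
      exact hnc (S.cen_of_commute hxA hsR hsA hsx.symm)
    by_cases h : s * r₀ = r₀ * s
    · exact Or.inl (S.cen_of_commute hsA S.r_mem S.r_not h)
    · refine Or.inr (S.cen_of_commute (mul_mem hxA hsA) S.r_mem S.r_not ?_)
      have e1 := S.toData.conj_ne S.r_mem hsR fun e => h e.symm
      have e2 : r₀ * x * r₀⁻¹ = z * x := by
        refine S.toData.conj_ne S.r_mem hx fun e => hnc ?_
        exact S.cen_of_commute hxA S.r_mem S.r_not e.symm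
      have e3 : r₀ * (x * s) * r₀⁻¹ = x * s := by
        calc r₀ * (x * s) * r₀⁻¹ = (r₀ * x * r₀⁻¹) * (r₀ * s * r₀⁻¹) := by group
          _ = z * (x * z) * s := by rw [e1, e2]; group
          _ = x * s := by rw [S.toData.cen_z.2 x hx, ← mul_assoc z z x, S.zz, one_mul]
      exact (mul_inv_eq_iff_eq_mul.1 e3).symm
  · by_cases hsA : s ∈ Ax R u
    · exact Or.inl (S.cen_of_commute hsA hx hxA hsx)
    · refine Or.inr (S.cen_of_commute (S.toData.ax_mul S.u_mem hx hsR hxA hsA) hx hxA ?_)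
      exact ((Commute.refl x).mul_left hsx).eq

theorem abel_Ax (S : Split R z u r₀) {x : L} (hx : x ∈ (R : Subgroup L)) (hnc : ¬ Cen R x) :
    ∀ a ∈ Ax R x, ∀ b ∈ Ax R x, a * b = b * a := by
  intro a ha b hb
  rcases S.cen_or hx hnc ha with h | h
  · exact (h.2 b (mem_Ax.1 hb).1).symm
  · have h1 : Commute b (x * a) := h.2 b (mem_Ax.1 hb).1
    have h2 : Commute b x := (mem_Ax.1 hb).2
    have h3 := h2.inv_right.mul_right h1
    rw [inv_mul_cancel_left] at h3
    exact h3.symm.eq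

theorem elem_Ax (S : Split R z u r₀) {x : L} (hx : x ∈ (R : Subgroup L)) (hx2 : x * x = 1)
    (hnc : ¬ Cen R x) : ∀ a ∈ Ax R x, a * a = 1 := by
  intro a ha
  rcases S.cen_or hx hnc ha with h | h
  · exact S.elem a (S.cen_mem h)
  · have h1 := S.elem _ (S.cen_mem h)
    have h2 : a * x = x * a := (mem_Ax.1 ha).2
    calc a * a = (x * x) * (a * a) := by rw [hx2, one_mul]
      _ = x * (x * a) * a := by group
      _ = x * (a * x) * a := by rw [← h2]
      _ = 1 := by rw [← h1]; group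

theorem exists_noncentral (S : Split R z u r₀) {A : Subgroup L} (hA : A ≤ (R : Subgroup L))
    (hcard : Nat.card A * 2 = Nat.card (R : Subgroup L)) : ∃ a ∈ A, ¬ Cen R a := by
  by_contra h
  push Not at h
  have hle : A ≤ Ax R u := fun a ha => S.cen_mem (h a ha)
  have hu : ¬ Cen R u := fun hc => S.r_not (mem_Ax.2 ⟨S.r_mem, hc.2 r₀ S.r_mem⟩)
  have heq : A = Ax R u := eq_of_le_of_card_ge hle (by
    have := S.toData.card_Ax S.u_mem hu; omega)
  exact hu (h u (heq ▸ mem_Ax.2 ⟨S.u_mem, rfl⟩))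

/-- Fusion of a non-central involution to a good one happens in the normalizer. -/
theorem conj_good (S : Split R z u r₀) {x y v : L} (hx : x ∈ (R : Subgroup L))
    (hx2 : x * x = 1) (hnc : ¬ Cen R x) (hy : y ∈ (R : Subgroup L)) (hv : v * x * v⁻¹ = y)
    (hg : Good R y) : ∃ h ∈ normalizer (Ax R x : Set L), h * x * h⁻¹ = y := by
  haveI : Fact (Nat.Prime 2) := ⟨Nat.prime_two⟩
  have hP : (Ax R x).map (MulAut.conj v).toMonoidHom ≤ centralizer ({y} : Set L) := by
    rintro _ ⟨a, ha, rfl⟩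
    rw [mem_centralizer_singleton_iff, ← hv]
    show v * a * v⁻¹ * (v * x * v⁻¹) = v * x * v⁻¹ * (v * a * v⁻¹)
    calc v * a * v⁻¹ * (v * x * v⁻¹) = v * (a * x) * v⁻¹ := by group
      _ = v * x * v⁻¹ * (v * a * v⁻¹) := by rw [(mem_Ax.1 ha).2]; group
  obtain ⟨c, hc, hcP⟩ := conj_into hg ((R.isPGroup'.to_le inf_le_left).map _) hP
  set h := c * v with hh
  set A' := (Ax R x).map (MulAut.conj h).toMonoidHom with hA'
  have hA'R : ∀ a ∈ Ax R x, h * a * h⁻¹ ∈ (R : Subgroup L) := fun a ha => by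
    rw [show h * a * h⁻¹ = c * (v * a * v⁻¹) * c⁻¹ by rw [hh]; group]
    exact (mem_Ax.1 (hcP _ ⟨a, ha, rfl⟩)).1
  have hA'le : A' ≤ (R : Subgroup L) := by
    rintro _ ⟨a, ha, rfl⟩; exact hA'R a ha
  have hcard : Nat.card A' * 2 = Nat.card (R : Subgroup L) := by
    rw [hA', card_map_of_injective (MulEquiv.injective _), S.toData.card_Ax hx hnc]
  obtain ⟨a, ha, hanc⟩ := S.exists_noncentral hA'le hcard
  have haR := hA'le ha
  have heq : A' = Ax R a := by
    refine eq_of_le_of_card_ge (fun b hb => mem_Ax.2 ⟨hA'le hb, ?_⟩)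
      (by have := S.toData.card_Ax haR hanc; omega)
    obtain ⟨b', hb', rfl⟩ := hb
    obtain ⟨a', ha', rfl⟩ := ha
    show h * b' * h⁻¹ * (h * a' * h⁻¹) = h * a' * h⁻¹ * (h * b' * h⁻¹)
    calc h * b' * h⁻¹ * (h * a' * h⁻¹) = h * (b' * a') * h⁻¹ := by group
      _ = _ := by rw [S.abel_Ax hx hnc b' hb' a' ha']; group
  -- normal subgroups of `R` conjugate in `L` coincide
  have hinv : ∀ (w : L), w ∈ (R : Subgroup L) → ∀ r ∈ R,
      (fun t => r * t * r⁻¹) '' (Ax R w : Set L) = (Ax R w : Set L) := by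
    intro w hw r hr
    refine Set.Subset.antisymm ?_ fun t ht => ?_
    · rintro _ ⟨t, ht, rfl⟩; exact S.toData.ax_normal hw hr ht
    · refine ⟨r⁻¹ * t * r, ?_, by group⟩
      simpa using S.toData.ax_normal hw (inv_mem hr) ht
  obtain ⟨n, hn, hne⟩ := CfsgLib.TransferBasic.fusion_normal_subsets R (Ax R x : Set L)
    (Ax R a : Set L) (hinv x hx) (hinv a haR) h (by rw [← heq, hA', Subgroup.coe_map]; rfl)
  rw [hinv x hx n (S.toData.normalizer_le hn)] at hne
  have hhA : A' = Ax R x := by rw [heq]; exact (SetLike.coe_injective hne).symm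
  refine ⟨h, mem_normalizer_iff.2 fun t => ⟨fun ht => hhA ▸ ⟨t, ht, rfl⟩, fun ht => ?_⟩, ?_⟩
  · rw [← hhA] at ht
    obtain ⟨t', ht', e⟩ := ht
    have : t' = t := mul_left_cancel (mul_right_cancel
      (show h * t' * h⁻¹ = h * t * h⁻¹ from e))
    rwa [← this]
  · rw [show h * x * h⁻¹ = c * (v * x * v⁻¹) * c⁻¹ by rw [hh]; group, hv,
      mem_centralizer_singleton_iff.1 hc, mul_inv_cancel_right]

theorem good_or_conj_cen (S : Split R z u r₀) {x : L} (hx : x ∈ (R : Subgroup L))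
    (hnc : ¬ Cen R x) : Good R x ∨ ∃ v w, Cen R w ∧ v * x * v⁻¹ = w := by
  haveI : Fact (Nat.Prime 2) := ⟨Nat.prime_two⟩
  refine or_iff_not_imp_left.2 fun hg => ?_
  simp only [Good, not_forall] at hg
  obtain ⟨P, hP, hPx, hle, hPR⟩ := hg
  obtain ⟨Q, hQ⟩ := hP.exists_le_sylow
  obtain ⟨v, hv⟩ := MulAction.exists_smul_eq L Q R
  have hmap : P.map (MulAut.conj v).toMonoidHom ≤ (R : Subgroup L) := by
    rintro _ ⟨p, hp, rfl⟩
    rw [← hv, Sylow.coe_subgroup_smul]
    exact ⟨p, hQ hp, rfl⟩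
  have hlt : Nat.card (Ax R x) < Nat.card P := by
    by_contra hge
    exact hPR ((eq_of_le_of_card_ge hle (not_lt.1 hge)).symm.le.trans inf_le_left)
  obtain ⟨i, hi⟩ := IsPGroup.iff_card.1 hP
  have hA2 : IsPGroup 2 (Ax R x) := R.isPGroup'.to_le inf_le_left
  obtain ⟨j, hj⟩ := IsPGroup.iff_card.1 hA2
  have hlt' : 2 ^ (j + 1) ≤ 2 ^ i := by
    refine Nat.pow_le_pow_right two_pos ?_
    rw [hi, hj] at hlt
    exact (Nat.pow_lt_pow_iff_right (by norm_num)).1 hlt
  have heq : P.map (MulAut.conj v).toMonoidHom = (R : Subgroup L) := by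
    refine eq_of_le_of_card_ge hmap ?_
    rw [card_map_of_injective (MulEquiv.injective _), hi, ← S.toData.card_Ax hx hnc, hj, ← pow_succ]
    exact hlt'
  refine ⟨v, v * x * v⁻¹, ⟨?_, fun r hr => ?_⟩, rfl⟩
  · exact hmap ⟨x, hle (mem_Ax.2 ⟨hx, rfl⟩), rfl⟩
  · rw [← heq] at hr
    obtain ⟨p, hp, rfl⟩ := hr
    show v * p * v⁻¹ * (v * x * v⁻¹) = v * x * v⁻¹ * (v * p * v⁻¹)
    calc v * p * v⁻¹ * (v * x * v⁻¹) = v * (p * x) * v⁻¹ := by group
      _ = _ := by rw [mem_centralizer_singleton_iff.1 (hPx hp)]; group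

/-- The images of `z` under the normalizer of `Ax R x`. -/
theorem exists_small (S : Split R z u r₀) {x : L} (hx : x ∈ (R : Subgroup L)) (hnc : ¬ Cen R x) :
    ∃ W : Subgroup L, z ∈ W ∧ W ≤ (R : Subgroup L) ∧
      (∃ d ∈ (R : Subgroup L), ∀ w ∈ W, w = 1 ∨ w = z ∨ w = d ∨ w = z * d) ∧
      ∀ n ∈ normalizer (Ax R x : Set L), ∀ a ∈ Ax R x, n * a * n⁻¹ * a⁻¹ ∈ W := by
  classical
  set A := Ax R x with hA
  set N := normalizer (A : Set L)
  obtain ⟨s₀, hs₀, hs₀x⟩ : ∃ r ∈ (R : Subgroup L), r ∉ A := by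
    by_contra h
    push Not at h
    exact hnc ⟨hx, fun r hr => (mem_Ax.1 (h r hr)).2⟩
  have hRN : ∀ r ∈ (R : Subgroup L), r ∈ N := by
    intro r hr
    refine mem_normalizer_iff.2 fun t => ⟨fun ht => S.toData.ax_normal hx hr ht, fun ht => ?_⟩
    simpa [mul_assoc] using S.toData.ax_normal hx (inv_mem hr) ht
  have hzA : z ∈ A := mem_Ax.2 ⟨S.toData.z_mem, (S.toData.cen_z.2 x hx).symm⟩
  -- transvections
  have key : ∀ c, (∃ n ∈ N, n * z * n⁻¹ = c) → ∀ m : L, m * c * m⁻¹ = c → m ∈ N →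
      ∀ a ∈ A, m * a * m⁻¹ = a ∨ m * a * m⁻¹ = c * a := by
    rintro c ⟨n, hn, rfl⟩ m hm hmN a ha
    have h1 : n⁻¹ * m * n ∈ (R : Subgroup L) := S.toData.mem_of_fix (by
      calc n⁻¹ * m * n * z * (n⁻¹ * m * n)⁻¹ = n⁻¹ * (m * (n * z * n⁻¹) * m⁻¹) * n := by group
        _ = z := by rw [hm]; group)
    have h2 : n⁻¹ * a * n ∈ A := (mem_normalizer_iff''.1 hn a).1 ha
    rcases S.comm _ h1 _ (mem_Ax.1 h2).1 with e | e
    · left
      calc m * a * m⁻¹ = n * (n⁻¹ * m * n * (n⁻¹ * a * n) * (n⁻¹ * m * n)⁻¹) * n⁻¹ := by group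
        _ = a := by rw [e]; group
    · right
      calc m * a * m⁻¹ = n * (n⁻¹ * m * n * (n⁻¹ * a * n) * (n⁻¹ * m * n)⁻¹) * n⁻¹ := by group
        _ = n * z * n⁻¹ * a := by rw [e]; group
  have tv : ∀ c, (∃ n ∈ N, n * z * n⁻¹ = c) → ∃ m ∈ N, m * c * m⁻¹ = c ∧
      ∀ d, (∃ n ∈ N, n * z * n⁻¹ = d) → d ≠ c → m * d * m⁻¹ = c * d := by
    intro c hc
    obtain ⟨n, hn, hnc'⟩ := hc
    refine ⟨n * s₀ * n⁻¹, mul_mem (mul_mem hn (hRN s₀ hs₀)) (inv_mem hn), ?_, ?_⟩
    · calc n * s₀ * n⁻¹ * c * (n * s₀ * n⁻¹)⁻¹ = n * (s₀ * z * s₀⁻¹) * n⁻¹ := by rw [← hnc']; group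
        _ = c := by rw [S.toData.cen_z.2 s₀ hs₀, mul_inv_cancel_right, hnc']
    · intro d hd hdc
      have hdA : d ∈ A := by
        obtain ⟨k, hk, rfl⟩ := hd
        exact (mem_normalizer_iff.1 hk z).1 hzA
      have hmN : n * s₀ * n⁻¹ ∈ N := mul_mem (mul_mem hn (hRN s₀ hs₀)) (inv_mem hn)
      have hmc : n * s₀ * n⁻¹ * c * (n * s₀ * n⁻¹)⁻¹ = c := by
        calc n * s₀ * n⁻¹ * c * (n * s₀ * n⁻¹)⁻¹ = n * (s₀ * z * s₀⁻¹) * n⁻¹ := by rw [← hnc']; group
          _ = c := by rw [S.toData.cen_z.2 s₀ hs₀, mul_inv_cancel_right, hnc']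
      refine (key c ⟨n, hn, hnc'⟩ _ hmc hmN d hdA).resolve_left fun hfix => ?_
      apply hs₀x
      refine mem_Ax.2 ⟨hs₀, mul_inv_eq_iff_eq_mul.1 ?_⟩
      have hna : n * x * n⁻¹ ∈ A := (mem_normalizer_iff.1 hn x).1 (mem_Ax.2 ⟨hx, rfl⟩)
      have h1 := key c ⟨n, hn, hnc'⟩ _ hmc hmN _ hna
      have h2 := key d hd _ hfix hmN _ hna
      have h3 : n * s₀ * n⁻¹ * (n * x * n⁻¹) * (n * s₀ * n⁻¹)⁻¹ = n * x * n⁻¹ := by
        rcases h1 with h1 | h1
        · exact h1
        · rcases h2 with h2 | h2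
          · exact h2
          · exact absurd (mul_right_cancel (h1.symm.trans h2)).symm hdc
      calc s₀ * x * s₀⁻¹ = n⁻¹ * (n * s₀ * n⁻¹ * (n * x * n⁻¹) * (n * s₀ * n⁻¹)⁻¹) * n := by group
        _ = x := by rw [h3]; group
  let C : Set L := {c | ∃ n ∈ N, n * z * n⁻¹ = c}
  have hzC : z ∈ C := ⟨1, one_mem _, by group⟩
  have hCA : ∀ c ∈ C, c ∈ A := by
    rintro c ⟨n, hn, rfl⟩; exact (mem_normalizer_iff.1 hn z).1 hzA
  have hCconj : ∀ m ∈ N, ∀ c ∈ C, m * c * m⁻¹ ∈ C := by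
    rintro m hm c ⟨n, hn, rfl⟩
    exact ⟨m * n, mul_mem hm hn, by group⟩
  have hC1 : ∀ c ∈ C, c ≠ 1 := by
    rintro c ⟨n, -, rfl⟩ h; exact S.z1 (conj_eq_one_iff.1 h)
  have hCcl : ∀ c ∈ C, ∀ d ∈ C, d ≠ c → c * d ∈ C := by
    intro c hc d hd hne
    obtain ⟨m, hm, -, hmd⟩ := tv c hc
    rw [← hmd d hd hne]
    exact hCconj m hm d hd
  have hCthree : ∀ c ∈ C, ∀ d ∈ C, d ≠ c → ∀ e ∈ C, e = c ∨ e = d ∨ e = c * d := by
    intro c hc d hd hne e he
    by_contra hcon
    push Not at hcon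
    obtain ⟨m, hm, -, hmd⟩ := tv e he
    have hcd := hCcl c hc d hd hne
    have e1 := hmd (c * d) hcd hcon.2.2.symm
    have e2 : m * (c * d) * m⁻¹ = c * d := by
      calc m * (c * d) * m⁻¹ = (m * c * m⁻¹) * (m * d * m⁻¹) := by group
        _ = (e * c) * (e * d) := by rw [hmd c hc hcon.1.symm, hmd d hd hcon.2.1.symm]
        _ = (c * e) * (e * d) := by
            rw [S.abel_Ax hx hnc e (hCA e he) c (hCA c hc)]
        _ = c * d := by
            obtain ⟨n, -, rfl⟩ := he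
            calc c * (n * z * n⁻¹) * (n * z * n⁻¹ * d) = c * (n * (z * z) * n⁻¹) * d := by group
              _ = c * d := by rw [S.zz]; group
    exact hC1 e he (mul_eq_right.1 (e1.symm.trans e2))
  have hcomm : ∀ c ∈ C, c * c = 1 := by
    rintro c ⟨n, -, rfl⟩
    calc n * z * n⁻¹ * (n * z * n⁻¹) = n * (z * z) * n⁻¹ := by group
      _ = 1 := by rw [S.zz]; group
  let W : Subgroup L :=
    { carrier := insert 1 C
      one_mem' := Set.mem_insert _ _
      mul_mem' := by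
        rintro a b (rfl | ha) (rfl | hb)
        · exact Or.inl (one_mul _)
        · exact Or.inr (by rw [one_mul]; exact hb)
        · exact Or.inr (by rw [mul_one]; exact ha)
        · by_cases h : b = a
          · exact Or.inl (by rw [h]; exact hcomm a ha)
          · exact Or.inr (hCcl a ha b hb h)
      inv_mem' := by
        rintro a (rfl | ha)
        · exact Or.inl inv_one
        · exact Or.inr (by rw [inv_eq_of_mul_eq_one_right (hcomm a ha)]; exact ha) }
  have hWR : W ≤ (R : Subgroup L) := by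
    rintro w (rfl | hw)
    · exact one_mem _
    · exact (mem_Ax.1 (hCA w hw)).1
  refine ⟨W, Or.inr hzC, hWR, ?_, fun n hn a ha => ?_⟩
  · by_cases h : ∃ d ∈ C, d ≠ z
    · obtain ⟨d, hd, hdz⟩ := h
      refine ⟨d, (mem_Ax.1 (hCA d hd)).1, ?_⟩
      rintro w (rfl | hw)
      · exact Or.inl rfl
      · exact Or.inr (hCthree z hzC d hd hdz w hw)
    · push Not at h
      refine ⟨z, S.toData.z_mem, ?_⟩
      rintro w (rfl | hw)
      · exact Or.inl rfl
      · exact Or.inr (Or.inl (h w hw))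
  · have haR := (mem_Ax.1 ha).1
    have hzW : z ∈ W := Or.inr hzC
    by_cases hd : n * z * n⁻¹ = z
    · rcases S.comm n (S.toData.mem_of_fix hd) a haR with e | e
      · rw [e, mul_inv_cancel]; exact one_mem _
      · rw [e, mul_inv_cancel_right]; exact hzW
    · set d := n * z * n⁻¹ with hd'
      have hdC : d ∈ C := ⟨n, hn, rfl⟩
      have hzd : z * d ∈ C := hCcl z hzC d hdC hd
      obtain ⟨m, hm, hmfix, hmd⟩ := tv (z * d) hzd
      have hmz : m * z * m⁻¹ = d := by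
        have hne : z ≠ z * d := fun e => hC1 d hdC (left_eq_mul.1 e)
        rw [hmd z hzC hne, S.abel_Ax hx hnc z (hCA z hzC) d (hCA d hdC), mul_assoc, S.zz, mul_one]
      have hs : m⁻¹ * n ∈ (R : Subgroup L) := S.toData.mem_of_fix (by
        calc m⁻¹ * n * z * (m⁻¹ * n)⁻¹ = m⁻¹ * d * m := by rw [hd']; group
          _ = z := by rw [← hmz]; group)
      have hdW : d ∈ W := Or.inr hdC
      have hzdW : z * d ∈ W := Or.inr hzd
      rcases S.comm _ hs a haR with e | e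
      · rcases key (z * d) hzd m hmfix hm a ha with e' | e'
        · rw [show n * a * n⁻¹ = m * (m⁻¹ * n * a * (m⁻¹ * n)⁻¹) * m⁻¹ by group, e, e',
            mul_inv_cancel]
          exact one_mem _
        · rw [show n * a * n⁻¹ = m * (m⁻¹ * n * a * (m⁻¹ * n)⁻¹) * m⁻¹ by group, e, e',
            mul_inv_cancel_right]
          exact hzdW
      · rw [show n * a * n⁻¹ = m * (m⁻¹ * n * a * (m⁻¹ * n)⁻¹) * m⁻¹ by group, e,
          show m * (z * a) * m⁻¹ * a⁻¹ = (m * z * m⁻¹) * (m * a * m⁻¹ * a⁻¹) by group, hmz]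
        rcases key (z * d) hzd m hmfix hm a ha with e' | e'
        · rw [e', mul_inv_cancel, mul_one]; exact hdW
        · rw [e', mul_inv_cancel_right]; exact mul_mem hdW hzdW

theorem card_eq_eight [IsSimpleGroup L] (S : Split R z u r₀) (hna : ¬ IsMulCommutative L) :
    Nat.card (R : Subgroup L) = 8 := by
  classical
  haveI : Fact (Nat.Prime 2) := ⟨Nat.prime_two⟩
  have hu : ¬ Cen R u := fun hc => S.r_not (mem_Ax.2 ⟨S.r_mem, hc.2 r₀ S.r_mem⟩)
  have hu2 : u * u = 1 := S.elem u (mem_Ax.2 ⟨S.u_mem, rfl⟩)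
  obtain ⟨b, hbR, hbnc, hball⟩ : ∃ b ∈ (R : Subgroup L), ¬ Cen R b ∧
      ∀ x ∈ (R : Subgroup L), x * x = 1 → ¬ Cen R x → Ax R x = Ax R u ∨ Ax R x = Ax R b := by
    have hsame : ∀ x y : L, x ∈ (R : Subgroup L) → y ∈ (R : Subgroup L) → ¬ Cen R x → ¬ Cen R y →
        y ∈ Ax R x → Ax R x = Ax R y := by
      intro x y hx hy hxnc hync hyx
      refine eq_of_le_of_card_ge (fun a ha => mem_Ax.2 ⟨(mem_Ax.1 ha).1, ?_⟩) ?_
      · exact S.abel_Ax hx hxnc a ha y hyx
      · have h1 := S.toData.card_Ax hx hxnc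
        have h2 := S.toData.card_Ax hy hync
        omega
    by_cases h : ∃ b ∈ (R : Subgroup L), b * b = 1 ∧ b ∉ Ax R u
    · obtain ⟨b, hbR, hb2, hbA⟩ := h
      have hbnc : ¬ Cen R b := fun hc => hbA (S.cen_mem hc)
      refine ⟨b, hbR, hbnc, fun x hx hx2 hxnc => ?_⟩
      by_cases hxA : x ∈ Ax R u
      · exact Or.inl (hsame u x S.u_mem hx hu hxnc hxA).symm
      · right
        refine (hsame b x hbR hx hbnc hxnc (mem_Ax.2 ⟨hx, ?_⟩)).symm
        have h1 := S.elem _ (S.toData.ax_mul S.u_mem hbR hx hbA hxA)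
        have h2 := inv_eq_of_mul_eq_one_right h1
        rw [mul_inv_rev, inv_eq_of_mul_eq_one_right hb2, inv_eq_of_mul_eq_one_right hx2] at h2
        exact h2
    · push Not at h
      exact ⟨u, S.u_mem, hu, fun x hx hx2 hxnc =>
        Or.inl (hsame u x S.u_mem hx hu hxnc (h x hx hx2)).symm⟩
  obtain ⟨W₁, hz₁, hW₁R, ⟨d, hdR, hW₁⟩, hfus₁⟩ := S.exists_small S.u_mem hu
  obtain ⟨W₂, hz₂, hW₂R, ⟨d', -, hW₂⟩, hfus₂⟩ := S.exists_small hbR hbnc
  set D := W₁ ⊔ W₂ with hD
  have hnorm : W₁ ≤ normalizer (W₂ : Set L) := by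
    intro w hw
    have hf : ∀ w ∈ (R : Subgroup L), ∀ t ∈ W₂, w * t * w⁻¹ ∈ W₂ := by
      intro w hw t ht
      rcases S.comm w hw t (hW₂R ht) with e | e <;> rw [e]
      · exact ht
      · exact mul_mem hz₂ ht
    refine mem_normalizer_iff.2 fun t => ⟨hf w (hW₁R hw) t, fun ht => ?_⟩
    simpa [mul_assoc] using hf w⁻¹ (inv_mem (hW₁R hw)) _ ht
  have hDR : D ≤ (R : Subgroup L) := sup_le hW₁R hW₂R
  -- the focal subgroup is contained in `D`
  have hfus : ∀ x ∈ (R : Subgroup L), x * x = 1 → ¬ Cen R x → ∀ y ∈ (R : Subgroup L),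
      Good R y → (∃ v, v * x * v⁻¹ = y) → y * x⁻¹ ∈ D := by
    rintro x hx hx2 hxnc y hy hg ⟨v, hv⟩
    obtain ⟨h, hh, hhx⟩ := S.conj_good hx hx2 hxnc hy hv hg
    have hxx : x ∈ Ax R x := mem_Ax.2 ⟨hx, rfl⟩
    rw [← hhx]
    rcases hball x hx hx2 hxnc with e | e
    · rw [e] at hh hxx; exact mem_sup_left (hfus₁ h hh x hxx)
    · rw [e] at hh hxx; exact mem_sup_right (hfus₂ h hh x hxx)
  have hfoc : (R : Subgroup L).focalSubgroup ≤ D := by
    rw [focalSubgroup_def, closure_le]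
    rintro _ ⟨hmem, x, hx, v, rfl⟩
    set y := v * x * v⁻¹ with hy
    have hyR : y ∈ (R : Subgroup L) := CfsgLib.TransferBasic.conj_mem_of_commutator_mem hx hmem
    have hgoal : y * x⁻¹ ∈ D → ⁅x, v⁆ ∈ (D : Set L) := fun h => by
      have h1 := inv_mem h
      rw [show (y * x⁻¹)⁻¹ = ⁅x, v⁆ by rw [hy, commutatorElement_def]; group] at h1
      exact h1
    apply hgoal
    have hyy : y * y = v * (x * x) * v⁻¹ := by rw [hy]; group
    rcases S.sq x hx with hx2 | hx2
    · have hy2 : y * y = 1 := by rw [hyy, hx2]; group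
      have hyback : v⁻¹ * y * v⁻¹⁻¹ = x := by rw [hy]; group
      by_cases hxc : Cen R x
      · by_cases hyc : Cen R y
        · rw [← S.toData.cen_eq_of_conj hxc hyc hy.symm, mul_inv_cancel]; exact one_mem _
        · have h := inv_mem (hfus y hyR hy2 hyc x hx (good_of_cen hxc) ⟨v⁻¹, hyback⟩)
          rwa [mul_inv_rev, inv_inv] at h
      · by_cases hyg : Good R y
        · exact hfus x hx hx2 hxc y hyR hyg ⟨v, hy.symm⟩
        · have hync : ¬ Cen R y := fun h => hyg (good_of_cen h)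
          obtain ⟨v', w, hw, hv'⟩ := (S.good_or_conj_cen hyR hync).resolve_left hyg
          have h1 := hfus x hx hx2 hxc w hw.1 (good_of_cen hw) ⟨v' * v, by rw [← hv', hy]; group⟩
          have h2 := hfus y hyR hy2 hync w hw.1 (good_of_cen hw) ⟨v', hv'⟩
          have h3 := mul_mem (inv_mem h2) h1
          rwa [mul_inv_rev, inv_inv, mul_assoc, inv_mul_cancel_left] at h3
    · have hvR : v ∈ (R : Subgroup L) := by
        rcases S.sq y hyR with h | h
        · exact absurd (conj_eq_one_iff.1 ((hx2 ▸ hyy).symm.trans h)) S.z1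
        · exact S.toData.mem_of_fix ((hx2 ▸ hyy).symm.trans h)
      rcases S.comm v hvR x hx with e | e
      · rw [hy, e, mul_inv_cancel]; exact one_mem _
      · rw [hy, e, mul_inv_cancel_right]; exact mem_sup_left hz₁
  have hperf : commutator L = ⊤ := by
    rcases (inferInstance : (commutator L).Normal).eq_bot_or_eq_top with h0 | h0
    · exfalso
      refine hna ⟨⟨fun a c => commutatorElement_eq_one_iff_mul_comm.mp ?_⟩⟩
      rw [← mem_bot, ← h0, _root_.commutator_def]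
      exact commutator_mem_commutator (mem_top a) (mem_top c)
    · exact h0
  have hRD : (R : Subgroup L) ≤ D := by
    refine le_trans ?_ hfoc
    rw [← Subgroup.commutator_inf_eq_focalSubgroup R, hperf, top_inf_eq]
  -- `D` has at most eight elements
  have hle : Nat.card (R : Subgroup L) ≤ 8 := by
    haveI := Fintype.ofFinite W₂
    haveI := Fintype.ofFinite (R : Subgroup L)
    let T : Finset L := ({1, d} : Finset L).biUnion fun i =>
      (Finset.univ : Finset W₂).image (fun w : W₂ => i * (w : L))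
    have hW₂card : (Finset.univ : Finset W₂).card ≤ 4 := by
      have hsub : (Finset.univ : Finset W₂).image Subtype.val ⊆ ({1, z, d', z * d'} : Finset L) := by
        intro w hw
        obtain ⟨w, -, rfl⟩ := Finset.mem_image.1 hw
        rcases hW₂ w w.2 with h | h | h | h <;> simp [h]
      rw [← Finset.card_image_of_injective _ Subtype.val_injective]
      exact (Finset.card_le_card hsub).trans Finset.card_le_four
    have hmemT : ∀ i ∈ ({1, d} : Finset L), ∀ w ∈ W₂, i * w ∈ T := fun i hi w hw =>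
      Finset.mem_biUnion.2 ⟨i, hi, Finset.mem_image.2 ⟨(⟨w, hw⟩ : W₂), Finset.mem_univ _, rfl⟩⟩
    have hsub : (Finset.univ : Finset (R : Subgroup L)).image Subtype.val ⊆ T := by
      intro r hr
      obtain ⟨r, -, rfl⟩ := Finset.mem_image.1 hr
      have h := hRD r.2
      rw [← SetLike.mem_coe, hD, coe_mul_of_left_le_normalizer_right _ _ hnorm] at h
      obtain ⟨w₁, hw₁, w₂, hw₂, e⟩ := Set.mem_mul.1 h
      rw [← e]
      rcases hW₁ w₁ hw₁ with rfl | rfl | rfl | rfl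
      · exact hmemT 1 (by simp) w₂ hw₂
      · simpa using hmemT 1 (by simp) (w₁ * w₂) (mul_mem hz₂ hw₂)
      · exact hmemT w₁ (by simp) w₂ hw₂
      · rw [← S.toData.cen_z.2 d hdR, mul_assoc]
        exact hmemT d (by simp) _ (mul_mem hz₂ hw₂)
    have hT : T.card ≤ 8 := by
      refine (Finset.card_biUnion_le_card_mul _ _ 4 fun i _ =>
        Finset.card_image_le.trans hW₂card).trans ?_
      have : ({1, d} : Finset L).card ≤ 2 := Finset.card_le_two
      omega
    rw [Nat.card_eq_fintype_card, ← Finset.card_univ,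
      ← Finset.card_image_of_injective _ Subtype.val_injective]
    exact (Finset.card_le_card hsub).trans hT
  -- and at least eight
  have h2 := S.toData.card_Ax S.u_mem hu
  obtain ⟨k, hk⟩ := IsPGroup.iff_card.1 R.isPGroup'
  rw [hk] at hle ⊢
  rcases (show k ≤ 2 ∨ k = 3 ∨ 4 ≤ k by omega) with h | rfl | h
  · exfalso
    -- otherwise the Sylow subgroup is abelian
    apply hu
    refine ⟨S.u_mem, fun r hr => ?_⟩
    haveI : Fact (Nat.Prime 2) := ⟨Nat.prime_two⟩
    have habel : ∀ a c : (R : Subgroup L), a * c = c * a := by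
      rcases (show k = 0 ∨ k = 1 ∨ k = 2 by omega) with rfl | rfl | rfl
      · intro a c
        rw [pow_zero] at hk
        have := (Nat.card_eq_one_iff_unique.1 hk).1
        exact Subsingleton.elim _ _
      · haveI := isCyclic_of_prime_card (α := (R : Subgroup L)) (p := 2) (by simpa using hk)
        exact fun a c => mul_comm' a c
      · exact IsPGroup.commutative_of_card_eq_prime_sq (p := 2) hk
    exact congrArg Subtype.val (habel ⟨r, hr⟩ ⟨u, S.u_mem⟩)
  · norm_num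
  · have : 2 ^ 4 ≤ 2 ^ k := Nat.pow_le_pow_right two_pos h
    omega

end Split

/-- The main theorem. -/
theorem nonempty_dihedral [IsSimpleGroup L] (hna : ¬ IsMulCommutative L) (z : L)
    (hz : orderOf z = 2) (R : Sylow 2 L) (hR : (R : Subgroup L) = centralizer ({z} : Set L))
    (hΦ : (frattini ↥(R : Subgroup L)).map (R : Subgroup L).subtype = zpowers z) :
    Nonempty (↥(R : Subgroup L) ≃* DihedralGroup 4) := by
  haveI : Fact (Nat.Prime 2) := ⟨Nat.prime_two⟩
  have hzz : z * z = 1 := by rw [← sq, ← hz, pow_orderOf_eq_one]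
  have hz1 : z ≠ 1 := fun h => by rw [h, orderOf_one] at hz; omega
  have hmem : ∀ t : (R : Subgroup L), t ∈ frattini ↥(R : Subgroup L) → (t : L) = 1 ∨ (t : L) = z := by
    intro t ht
    have h : (t : L) ∈ zpowers z := hΦ ▸ mem_map_of_mem _ ht
    obtain ⟨i, hi⟩ := h
    rcases Int.even_or_odd i with ⟨j, rfl⟩ | ⟨j, rfl⟩
    · left; rw [← hi]; simp only [← two_mul, zpow_mul, zpow_two, hzz, one_zpow]
    · right; rw [← hi]; simp only [zpow_add, zpow_mul, zpow_two, hzz, one_zpow, one_mul, zpow_one]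
  obtain ⟨hcom, hpow⟩ := CfsgLib.PGroupBasic.commutator_pow_le_frattini R.isPGroup'
  have D : Data R z :=
    { zz := hzz
      z1 := hz1
      hR := hR
      sq := fun r hr => by
        have h := hmem _ (hpow (⟨r, hr⟩ : (R : Subgroup L)))
        rw [Subgroup.coe_pow, sq] at h
        exact h
      comm := fun r hr s hs => by
        have h := hmem _ (hcom (x := ⁅(⟨r, hr⟩ : (R : Subgroup L)), ⟨s, hs⟩⁆) (by
          rw [_root_.commutator_def]; exact commutator_mem_commutator (mem_top _) (mem_top _)))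
        rcases h with h | h
        · left
          exact mul_inv_eq_one.1 (show r * s * r⁻¹ * s⁻¹ = 1 from h)
        · right
          exact mul_inv_eq_iff_eq_mul.1 (show r * s * r⁻¹ * s⁻¹ = z from h)
      norm := fun n hn => by
        obtain ⟨t, ht, htz⟩ : z ∈ (frattini ↥(R : Subgroup L)).map (R : Subgroup L).subtype :=
          hΦ.symm ▸ mem_zpowers z
        let σ := (R : Subgroup L).normalizerMonoidHom ⟨n, hn⟩
        have h1 : σ t ∈ frattini ↥(R : Subgroup L) := by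
          have hchar := (Subgroup.characteristic_iff_comap_eq.1
            (inferInstance : (frattini ↥(R : Subgroup L)).Characteristic)) σ
          rw [← hchar] at ht
          exact ht
        have h2 : (σ t : L) = n * z * n⁻¹ := by rw [← htz]; rfl
        rcases hmem _ h1 with h | h
        · exact absurd (conj_eq_one_iff.1 (h2.symm.trans h)) hz1
        · exact h2.symm.trans h }
  obtain ⟨u, r₀, S⟩ := exists_split D hna
  have h8 := S.card_eq_eight hna
  have hu : ¬ Cen R u := fun hc => S.r_not (mem_Ax.2 ⟨S.r_mem, hc.2 r₀ S.r_mem⟩)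
  set uR : (R : Subgroup L) := ⟨u, S.u_mem⟩
  have huo : orderOf uR = 2 := by
    refine orderOf_eq_prime ?_ fun h => hu ?_
    · rw [sq]; exact Subtype.ext (S.elem u (mem_Ax.2 ⟨S.u_mem, rfl⟩))
    · have h1 : u = 1 := congrArg Subtype.val h
      rw [h1]
      exact ⟨one_mem _, fun r _ => by rw [mul_one, one_mul]⟩
  have hc4 : Nat.card (centralizer ({uR} : Set (R : Subgroup L))) = 4 := by
    have e : centralizer ({uR} : Set (R : Subgroup L)) = (Ax R u).subgroupOf (R : Subgroup L) := by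
      ext s
      rw [mem_centralizer_singleton_iff, mem_subgroupOf, mem_Ax, Subtype.ext_iff]
      exact ⟨fun h => ⟨s.2, h⟩, fun h => h.2⟩
    rw [e, Nat.card_congr (subgroupOfEquivOfLe (show Ax R u ≤ (R : Subgroup L) from inf_le_left)).toEquiv]
    have := S.toData.card_Ax S.u_mem hu
    omega
  rcases Cfsg.Agent.S3224.result R.isPGroup' uR huo hc4 with ⟨m, ⟨e⟩⟩ | hq | h4
  · have hm : 2 * m = 8 := by
      rw [← h8, Nat.card_congr e.toEquiv, DihedralGroup.nat_card]
    obtain rfl : m = 4 := by omega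
    exact ⟨e⟩
  · exfalso
    obtain ⟨n, hn, hcard, -⟩ := hq
    rw [h8] at hcard
    have : 2 ^ 4 ≤ 2 ^ (n + 1) := Nat.pow_le_pow_right two_pos (by omega)
    omega
  · omega

end CfsgLib.SmallFrattini
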